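import Mathlib
import Cfsg.Agent.Lib.Helper56.TC
import Cfsg.Agent.Lib.Helper56.Fi23a.C0
import Cfsg.Agent.Lib.Helper56.Fi23a.C1
import Cfsg.Agent.Lib.Helper56.Fi23a.C2
import Cfsg.Agent.Lib.Helper56.Fi23a.C3
import Cfsg.Agent.Lib.Helper56.Fi23a.C4
import Cfsg.Agent.Lib.Helper56.Fi23a.C5
import Cfsg.Agent.Lib.Helper56.Fi23a.C6
import Cfsg.Agent.Lib.Helper56.Fi23a.C7
import Cfsg.Agent.Lib.Helper56.Fi23a.C8
import Cfsg.Agent.Lib.Helper56.Fi23a.C9
import Cfsg.Agent.Lib.Helper56.Fi23a.C10
import Cfsg.Agent.Lib.Helper56.Fi23a.C11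
import Cfsg.Agent.Lib.Helper56.Fi23a.C12
import Cfsg.Agent.Lib.Helper56.Fi23a.C13
import Cfsg.Agent.Lib.Helper56.Fi23a.C14
set_option autoImplicit false
set_option maxRecDepth 1000000

namespace Cfsg.Agent.Lib.Helper56.Fi23a

open Cfsg.Agent.Lib.Helper56.TC Cfsg.Agent.Lib.Helper56.TC.Tabs

theorem uN_454 : Upto T.chkName 454 := upto_add (upto_zero T.chkName) rfl cN_0
theorem uN_913 : Upto T.chkName 913 := upto_add uN_454 rfl cN_454
theorem uN_1373 : Upto T.chkName 1373 := upto_add uN_913 rfl cN_913
theorem uN_1835 : Upto T.chkName 1835 := upto_add uN_1373 rfl cN_1373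
theorem uN_2298 : Upto T.chkName 2298 := upto_add uN_1835 rfl cN_1835
theorem uN_2760 : Upto T.chkName 2760 := upto_add uN_2298 rfl cN_2298
theorem uN_3225 : Upto T.chkName 3225 := upto_add uN_2760 rfl cN_2760
theorem uN_3689 : Upto T.chkName 3689 := upto_add uN_3225 rfl cN_3225
theorem uN_4154 : Upto T.chkName 4154 := upto_add uN_3689 rfl cN_3689
theorem uN_4619 : Upto T.chkName 4619 := upto_add uN_4154 rfl cN_4154
theorem uN_5085 : Upto T.chkName 5085 := upto_add uN_4619 rfl cN_4619
theorem uN_5551 : Upto T.chkName 5551 := upto_add uN_5085 rfl cN_5085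
theorem uN_6018 : Upto T.chkName 6018 := upto_add uN_5551 rfl cN_5551
theorem uN_6485 : Upto T.chkName 6485 := upto_add uN_6018 rfl cN_6018
theorem uN_6952 : Upto T.chkName 6952 := upto_add uN_6485 rfl cN_6485
theorem uN_7420 : Upto T.chkName 7420 := upto_add uN_6952 rfl cN_6952
theorem uN_7886 : Upto T.chkName 7886 := upto_add uN_7420 rfl cN_7420
theorem uN_8354 : Upto T.chkName 8354 := upto_add uN_7886 rfl cN_7886
theorem uN_8822 : Upto T.chkName 8822 := upto_add uN_8354 rfl cN_8354
theorem uN_9292 : Upto T.chkName 9292 := upto_add uN_8822 rfl cN_8822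
theorem uN_9752 : Upto T.chkName 9752 := upto_add uN_9292 rfl cN_9292
theorem uN_10224 : Upto T.chkName 10224 := upto_add uN_9752 rfl cN_9752
theorem uN_10692 : Upto T.chkName 10692 := upto_add uN_10224 rfl cN_10224
theorem uN_11161 : Upto T.chkName 11161 := upto_add uN_10692 rfl cN_10692
theorem uN_11624 : Upto T.chkName 11624 := upto_add uN_11161 rfl cN_11161
theorem uN_12098 : Upto T.chkName 12098 := upto_add uN_11624 rfl cN_11624
theorem uN_12566 : Upto T.chkName 12566 := upto_add uN_12098 rfl cN_12098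
theorem uN_13034 : Upto T.chkName 13034 := upto_add uN_12566 rfl cN_12566
theorem uN_13493 : Upto T.chkName 13493 := upto_add uN_13034 rfl cN_13034
theorem uN_13954 : Upto T.chkName 13954 := upto_add uN_13493 rfl cN_13493
theorem uN_14431 : Upto T.chkName 14431 := upto_add uN_13954 rfl cN_13954
theorem uN_14902 : Upto T.chkName 14902 := upto_add uN_14431 rfl cN_14431
theorem uN_15370 : Upto T.chkName 15370 := upto_add uN_14902 rfl cN_14902
theorem uN_15826 : Upto T.chkName 15826 := upto_add uN_15370 rfl cN_15370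
theorem uN_16298 : Upto T.chkName 16298 := upto_add uN_15826 rfl cN_15826
theorem uN_16770 : Upto T.chkName 16770 := upto_add uN_16298 rfl cN_16298
theorem uN_17242 : Upto T.chkName 17242 := upto_add uN_16770 rfl cN_16770
theorem uN_17703 : Upto T.chkName 17703 := upto_add uN_17242 rfl cN_17242
theorem uN_18158 : Upto T.chkName 18158 := upto_add uN_17703 rfl cN_17703
theorem uN_18644 : Upto T.chkName 18644 := upto_add uN_18158 rfl cN_18158
theorem uN_19118 : Upto T.chkName 19118 := upto_add uN_18644 rfl cN_18644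
theorem uN_19582 : Upto T.chkName 19582 := upto_add uN_19118 rfl cN_19118
theorem uN_20034 : Upto T.chkName 20034 := upto_add uN_19582 rfl cN_19582
theorem uN_20523 : Upto T.chkName 20523 := upto_add uN_20034 rfl cN_20034
theorem uN_20996 : Upto T.chkName 20996 := upto_add uN_20523 rfl cN_20523
theorem uN_21455 : Upto T.chkName 21455 := upto_add uN_20996 rfl cN_20996
theorem uN_21926 : Upto T.chkName 21926 := upto_add uN_21455 rfl cN_21455
theorem uN_22403 : Upto T.chkName 22403 := upto_add uN_21926 rfl cN_21926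
theorem uN_22869 : Upto T.chkName 22869 := upto_add uN_22403 rfl cN_22403
theorem uN_23335 : Upto T.chkName 23335 := upto_add uN_22869 rfl cN_22869
theorem uN_23818 : Upto T.chkName 23818 := upto_add uN_23335 rfl cN_23335
theorem uN_24279 : Upto T.chkName 24279 := upto_add uN_23818 rfl cN_23818
theorem uN_24760 : Upto T.chkName 24760 := upto_add uN_24279 rfl cN_24279
theorem uN_25231 : Upto T.chkName 25231 := upto_add uN_24760 rfl cN_24760
theorem uN_25696 : Upto T.chkName 25696 := upto_add uN_25231 rfl cN_25231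
theorem uN_26177 : Upto T.chkName 26177 := upto_add uN_25696 rfl cN_25696
theorem uN_26637 : Upto T.chkName 26637 := upto_add uN_26177 rfl cN_26177
theorem uN_27120 : Upto T.chkName 27120 := upto_add uN_26637 rfl cN_26637
theorem uN_27591 : Upto T.chkName 27591 := upto_add uN_27120 rfl cN_27120
theorem uN_28054 : Upto T.chkName 28054 := upto_add uN_27591 rfl cN_27591
theorem uN_28536 : Upto T.chkName 28536 := upto_add uN_28054 rfl cN_28054
theorem uN_28992 : Upto T.chkName 28992 := upto_add uN_28536 rfl cN_28536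
theorem uN_29481 : Upto T.chkName 29481 := upto_add uN_28992 rfl cN_28992
theorem uN_29945 : Upto T.chkName 29945 := upto_add uN_29481 rfl cN_29481
theorem uN_30421 : Upto T.chkName 30421 := upto_add uN_29945 rfl cN_29945
theorem uN_30890 : Upto T.chkName 30890 := upto_add uN_30421 rfl cN_30421
theorem uN_31358 : Upto T.chkName 31358 := upto_add uN_30890 rfl cN_30890
theorem uN_31868 : Upto T.chkName 31868 := upto_add uN_31358 rfl cN_31358
theorem uN_32452 : Upto T.chkName 32452 := upto_add uN_31868 rfl cN_31868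
theorem uN_33035 : Upto T.chkName 33035 := upto_add uN_32452 rfl cN_32452
theorem uN_33621 : Upto T.chkName 33621 := upto_add uN_33035 rfl cN_33035
theorem uN_34207 : Upto T.chkName 34207 := upto_add uN_33621 rfl cN_33621
theorem uN_34800 : Upto T.chkName 34800 := upto_add uN_34207 rfl cN_34207
theorem uN_35387 : Upto T.chkName 35387 := upto_add uN_34800 rfl cN_34800
theorem uN_35971 : Upto T.chkName 35971 := upto_add uN_35387 rfl cN_35387
theorem uN_36567 : Upto T.chkName 36567 := upto_add uN_35971 rfl cN_35971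
theorem uN_37150 : Upto T.chkName 37150 := upto_add uN_36567 rfl cN_36567
theorem uN_37739 : Upto T.chkName 37739 := upto_add uN_37150 rfl cN_37150
theorem uN_38334 : Upto T.chkName 38334 := upto_add uN_37739 rfl cN_37739
theorem uN_38921 : Upto T.chkName 38921 := upto_add uN_38334 rfl cN_38334
theorem uN_39533 : Upto T.chkName 39533 := upto_add uN_38921 rfl cN_38921
theorem uN_40158 : Upto T.chkName 40158 := upto_add uN_39533 rfl cN_39533
theorem uN_40792 : Upto T.chkName 40792 := upto_add uN_40158 rfl cN_40158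
theorem uN_41423 : Upto T.chkName 41423 := upto_add uN_40792 rfl cN_40792
theorem uN_41461 : Upto T.chkName 41461 := upto_add uN_41423 rfl cN_41423
theorem uV_372 : Upto T.chkV 372 := upto_add (upto_zero T.chkV) rfl cV_0
theorem uV_744 : Upto T.chkV 744 := upto_add uV_372 rfl cV_372
theorem uV_1116 : Upto T.chkV 1116 := upto_add uV_744 rfl cV_744
theorem uV_1488 : Upto T.chkV 1488 := upto_add uV_1116 rfl cV_1116
theorem uV_1860 : Upto T.chkV 1860 := upto_add uV_1488 rfl cV_1488
theorem uV_2232 : Upto T.chkV 2232 := upto_add uV_1860 rfl cV_1860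
theorem uV_2604 : Upto T.chkV 2604 := upto_add uV_2232 rfl cV_2232
theorem uV_2976 : Upto T.chkV 2976 := upto_add uV_2604 rfl cV_2604
theorem uV_3348 : Upto T.chkV 3348 := upto_add uV_2976 rfl cV_2976
theorem uV_3720 : Upto T.chkV 3720 := upto_add uV_3348 rfl cV_3348
theorem uV_4092 : Upto T.chkV 4092 := upto_add uV_3720 rfl cV_3720
theorem uV_4464 : Upto T.chkV 4464 := upto_add uV_4092 rfl cV_4092
theorem uV_4836 : Upto T.chkV 4836 := upto_add uV_4464 rfl cV_4464
theorem uV_5208 : Upto T.chkV 5208 := upto_add uV_4836 rfl cV_4836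
theorem uV_5580 : Upto T.chkV 5580 := upto_add uV_5208 rfl cV_5208
theorem uV_5952 : Upto T.chkV 5952 := upto_add uV_5580 rfl cV_5580
theorem uV_6324 : Upto T.chkV 6324 := upto_add uV_5952 rfl cV_5952
theorem uV_6696 : Upto T.chkV 6696 := upto_add uV_6324 rfl cV_6324
theorem uV_7068 : Upto T.chkV 7068 := upto_add uV_6696 rfl cV_6696
theorem uV_7440 : Upto T.chkV 7440 := upto_add uV_7068 rfl cV_7068
theorem uV_7812 : Upto T.chkV 7812 := upto_add uV_7440 rfl cV_7440
theorem uV_8184 : Upto T.chkV 8184 := upto_add uV_7812 rfl cV_7812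
theorem uV_8556 : Upto T.chkV 8556 := upto_add uV_8184 rfl cV_8184
theorem uV_8928 : Upto T.chkV 8928 := upto_add uV_8556 rfl cV_8556
theorem uV_9300 : Upto T.chkV 9300 := upto_add uV_8928 rfl cV_8928
theorem uV_9672 : Upto T.chkV 9672 := upto_add uV_9300 rfl cV_9300
theorem uV_10044 : Upto T.chkV 10044 := upto_add uV_9672 rfl cV_9672
theorem uV_10416 : Upto T.chkV 10416 := upto_add uV_10044 rfl cV_10044
theorem uV_10788 : Upto T.chkV 10788 := upto_add uV_10416 rfl cV_10416
theorem uV_11160 : Upto T.chkV 11160 := upto_add uV_10788 rfl cV_10788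
theorem uV_11532 : Upto T.chkV 11532 := upto_add uV_11160 rfl cV_11160
theorem uV_11904 : Upto T.chkV 11904 := upto_add uV_11532 rfl cV_11532
theorem uV_12276 : Upto T.chkV 12276 := upto_add uV_11904 rfl cV_11904
theorem uV_12648 : Upto T.chkV 12648 := upto_add uV_12276 rfl cV_12276
theorem uV_13020 : Upto T.chkV 13020 := upto_add uV_12648 rfl cV_12648
theorem uV_13392 : Upto T.chkV 13392 := upto_add uV_13020 rfl cV_13020
theorem uV_13764 : Upto T.chkV 13764 := upto_add uV_13392 rfl cV_13392
theorem uV_14136 : Upto T.chkV 14136 := upto_add uV_13764 rfl cV_13764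
theorem uV_14508 : Upto T.chkV 14508 := upto_add uV_14136 rfl cV_14136
theorem uV_14880 : Upto T.chkV 14880 := upto_add uV_14508 rfl cV_14508
theorem uV_15252 : Upto T.chkV 15252 := upto_add uV_14880 rfl cV_14880
theorem uV_15624 : Upto T.chkV 15624 := upto_add uV_15252 rfl cV_15252
theorem uV_15996 : Upto T.chkV 15996 := upto_add uV_15624 rfl cV_15624
theorem uV_16368 : Upto T.chkV 16368 := upto_add uV_15996 rfl cV_15996
theorem uV_16740 : Upto T.chkV 16740 := upto_add uV_16368 rfl cV_16368
theorem uV_17112 : Upto T.chkV 17112 := upto_add uV_16740 rfl cV_16740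
theorem uV_17484 : Upto T.chkV 17484 := upto_add uV_17112 rfl cV_17112
theorem uV_17856 : Upto T.chkV 17856 := upto_add uV_17484 rfl cV_17484
theorem uV_18228 : Upto T.chkV 18228 := upto_add uV_17856 rfl cV_17856
theorem uV_18600 : Upto T.chkV 18600 := upto_add uV_18228 rfl cV_18228
theorem uV_18972 : Upto T.chkV 18972 := upto_add uV_18600 rfl cV_18600
theorem uV_19344 : Upto T.chkV 19344 := upto_add uV_18972 rfl cV_18972
theorem uV_19716 : Upto T.chkV 19716 := upto_add uV_19344 rfl cV_19344
theorem uV_20088 : Upto T.chkV 20088 := upto_add uV_19716 rfl cV_19716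
theorem uV_20460 : Upto T.chkV 20460 := upto_add uV_20088 rfl cV_20088
theorem uV_20832 : Upto T.chkV 20832 := upto_add uV_20460 rfl cV_20460
theorem uV_21204 : Upto T.chkV 21204 := upto_add uV_20832 rfl cV_20832
theorem uV_21576 : Upto T.chkV 21576 := upto_add uV_21204 rfl cV_21204
theorem uV_21948 : Upto T.chkV 21948 := upto_add uV_21576 rfl cV_21576
theorem uV_22320 : Upto T.chkV 22320 := upto_add uV_21948 rfl cV_21948
theorem uV_22692 : Upto T.chkV 22692 := upto_add uV_22320 rfl cV_22320
theorem uV_23064 : Upto T.chkV 23064 := upto_add uV_22692 rfl cV_22692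
theorem uV_23436 : Upto T.chkV 23436 := upto_add uV_23064 rfl cV_23064
theorem uV_23808 : Upto T.chkV 23808 := upto_add uV_23436 rfl cV_23436
theorem uV_24180 : Upto T.chkV 24180 := upto_add uV_23808 rfl cV_23808
theorem uV_24552 : Upto T.chkV 24552 := upto_add uV_24180 rfl cV_24180
theorem uV_24924 : Upto T.chkV 24924 := upto_add uV_24552 rfl cV_24552
theorem uV_25296 : Upto T.chkV 25296 := upto_add uV_24924 rfl cV_24924
theorem uV_25668 : Upto T.chkV 25668 := upto_add uV_25296 rfl cV_25296
theorem uV_26040 : Upto T.chkV 26040 := upto_add uV_25668 rfl cV_25668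
theorem uV_26412 : Upto T.chkV 26412 := upto_add uV_26040 rfl cV_26040
theorem uV_26784 : Upto T.chkV 26784 := upto_add uV_26412 rfl cV_26412
theorem uV_27156 : Upto T.chkV 27156 := upto_add uV_26784 rfl cV_26784
theorem uV_27528 : Upto T.chkV 27528 := upto_add uV_27156 rfl cV_27156
theorem uV_27900 : Upto T.chkV 27900 := upto_add uV_27528 rfl cV_27528
theorem uV_28272 : Upto T.chkV 28272 := upto_add uV_27900 rfl cV_27900
theorem uV_28644 : Upto T.chkV 28644 := upto_add uV_28272 rfl cV_28272
theorem uV_29016 : Upto T.chkV 29016 := upto_add uV_28644 rfl cV_28644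
theorem uV_29388 : Upto T.chkV 29388 := upto_add uV_29016 rfl cV_29016
theorem uV_29760 : Upto T.chkV 29760 := upto_add uV_29388 rfl cV_29388
theorem uV_30132 : Upto T.chkV 30132 := upto_add uV_29760 rfl cV_29760
theorem uV_30504 : Upto T.chkV 30504 := upto_add uV_30132 rfl cV_30132
theorem uV_30876 : Upto T.chkV 30876 := upto_add uV_30504 rfl cV_30504
theorem uV_31248 : Upto T.chkV 31248 := upto_add uV_30876 rfl cV_30876
theorem uV_31620 : Upto T.chkV 31620 := upto_add uV_31248 rfl cV_31248
theorem uV_31671 : Upto T.chkV 31671 := upto_add uV_31620 rfl cV_31620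

/-- The certificate is valid. -/
theorem cert : T.Cert where
  h0 := by decide +kernel
  hrx := by decide +kernel
  hs0 := by decide +kernel
  hname := uN_41461
  hV := uV_31671

theorem orep_0 : T.orep 0 < T.N ∧ T.ol (T.orep 0) = 0 := by decide +kernel
theorem cnt_0 : countLt (fun v => Nat.beq (T.ol v) 0) T.N = 1 := by decide +kernel
theorem orep_1 : T.orep 1 < T.N ∧ T.ol (T.orep 1) = 1 := by decide +kernel
theorem cnt_1 : countLt (fun v => Nat.beq (T.ol v) 1) T.N = 28160 := by decide +kernel
theorem orep_2 : T.orep 2 < T.N ∧ T.ol (T.orep 2) = 2 := by decide +kernel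
theorem cnt_2 : countLt (fun v => Nat.beq (T.ol v) 2) T.N = 3510 := by decide +kernel

end Cfsg.Agent.Lib.Helper56.Fi23a
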